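import Cfsg.Agent.S0457
import Cfsg.Agent.Lib.JankoOne.InvolutionData
import Cfsg.Agent.Lib.Recog.JankoOneSpectrum

/-!
# Involutions of the first Janko group and their centralisers

All involutions are conjugate, there are at most 1463 of them, and the centraliser of one of them
has order 120 and is given by a table.
-/

set_option autoImplicit false
set_option maxRecDepth 4000

namespace Cfsg.Agent.J1Invol

open Cfsg Cfsg.Agent.Recog Cfsg.Agent.Recog.JankoOne Cfsg.Agent.S0457 PackedEleven

local notation "GLJ" => GL (Fin 7) (ZMod 11)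
set_option quotPrecheck false in
local notation "J" => ↥Cfsg.Spor.J1

/-- The matrix of an element. -/
def val (x : J) : Matrix (Fin 7) (Fin 7) (ZMod 11) := (x : GLJ).val

theorem val_inj {x y : J} (h : val x = val y) : x = y := Subtype.ext (Units.ext h)

theorem val_mul (x y : J) : val (x * y) = val x * val y := rfl

theorem val_one : val (1 : J) = 1 := rfl

theorem val_el (l : List Bool) : val (el l) = toMat (wp l) := (wp_spec l).2.symm

theorem el_nil : el [] = 1 := rfl

theorem el_append (a b : List Bool) : el (a ++ b) = el a * el b := Subtype.ext (wd_append a b)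

theorem el_eq {a b : List Bool} (h : Nat.beq (wp a) (wp b) = true) : el a = el b :=
  Subtype.ext (wd_eq h)

theorem small_wp (l : List Bool) : Small (wp l) := (wp_spec l).1

/-- A conjugate of the involution. -/
def invol (i : ℕ) : ℕ := spread (invData.get i)

/-- An element of the centraliser. -/
def centV (i : ℕ) : ℕ := spread (centData.get i)

theorem small_invol (i : ℕ) : Small (invol i) := small_spread _

theorem small_centV (i : ℕ) : Small (centV i) := small_spread _

/-- The edges are correct at an index. -/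
def conjOk (i : ℕ) : Bool :=
  (Nat.blt (invX.get i) 1463 &&
    Nat.beq (mul genX (invol i)) (mul (invol (invX.get i)) genX)) &&
  (Nat.blt (invY.get i) 1463 &&
    Nat.beq (mul genY (invol i)) (mul (invol (invY.get i)) genY))

theorem conj_check0 : allBelow conjOk 20 0 500 = true := by decide +kernel

theorem conj_check1 : allBelow conjOk 20 500 500 = true := by decide +kernel

theorem conj_check2 : allBelow conjOk 20 1000 463 = true := by decide +kernel

theorem conj_check (i : ℕ) (hi : i < 1463) : conjOk i = true := by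
  by_cases h0 : i < 500
  · exact allBelow_spec 20 0 500 conj_check0 i (by omega) (by omega)
  by_cases h1 : i < 1000
  · exact allBelow_spec 20 500 500 conj_check1 i (by omega) (by omega)
  exact allBelow_spec 20 1000 463 conj_check2 i (by omega) (by omega)

theorem conj_gen (i : ℕ) (hi : i < 1463) :
    (∃ j < 1463, (Spor.jankoX : GLJ).val * toMat (invol i) = toMat (invol j) * (Spor.jankoX : GLJ).val) ∧
    (∃ j < 1463, (Spor.jankoY : GLJ).val * toMat (invol i) = toMat (invol j) * (Spor.jankoY : GLJ).val) := by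
  have h := conj_check i hi
  simp only [conjOk, Bool.and_eq_true] at h
  obtain ⟨⟨a1, a2⟩, b1, b2⟩ := h
  rw [← genX_val, ← genY_val]
  exact ⟨⟨_, blt_lt a1, mul_eq_of_beq (small_spread _) (small_invol _) (small_invol _) (small_spread _) a2⟩,
    ⟨_, blt_lt b1, mul_eq_of_beq (small_spread _) (small_invol _) (small_invol _) (small_spread _) b2⟩⟩

theorem conj_closed {g : GLJ} (hg : g ∈ Spor.J1) : ∀ i < 1463, ∃ j < 1463,
    g.val * toMat (invol i) = toMat (invol j) * g.val := by
  let S : Submonoid GLJ :=
    { carrier := {g | ∀ i < 1463, ∃ j < 1463, g.val * toMat (invol i) = toMat (invol j) * g.val}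
      one_mem' := fun i hi => ⟨i, hi, by rw [Units.val_one, one_mul, mul_one]⟩
      mul_mem' := fun {a b} ha hb i hi => by
        obtain ⟨j, hj, h⟩ := hb i hi
        obtain ⟨k, hk, h'⟩ := ha j hj
        exact ⟨k, hk, by rw [Units.val_mul, mul_assoc, h, ← mul_assoc, h', mul_assoc]⟩ }
  suffices g ∈ S from this
  induction hg using Subgroup.closure_induction with
  | mem x hx =>
    rcases hx with rfl | rfl
    · exact fun i hi => (conj_gen i hi).1
    · exact fun i hi => (conj_gen i hi).2
  | one => exact one_mem S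
  | mul x y _ _ hx hy => exact mul_mem hx hy
  | inv x _ hx => exact inv_pow ▸ pow_mem hx _

theorem invol_zero : Nat.beq (wp aW) (invol 0) = true := by decide +kernel

theorem conj_index (g : J) : ∃ i < 1463, val (g * el aW * g⁻¹) = toMat (invol i) := by
  obtain ⟨j, hj, h⟩ := conj_closed g.2 0 (by norm_num)
  refine ⟨j, hj, ?_⟩
  rw [val_mul, val_mul, val_el, beq_eq invol_zero]
  show (g : GLJ).val * toMat (invol 0) * val g⁻¹ = _
  rw [h, mul_assoc, show (g : GLJ).val * val g⁻¹ = 1 from by
    show val g * val g⁻¹ = 1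
    rw [← val_mul, mul_inv_cancel, val_one], mul_one]

theorem sylConj_ok : ((List.range 7).all fun i =>
    Nat.beq (wp (sylConj.getD (i + 1) [] ++ aW))
      (wp (sylW.getD (i + 1) [] ++ sylConj.getD (i + 1) []))) = true := by decide +kernel

theorem exists_sylow_list : ∃ S : Subgroup J, Nat.card S = 8 ∧
    ∀ x ∈ S, ∃ i < 8, x = el (sylW.getD i []) := by
  classical
  obtain ⟨hlen, hcl, hnd, h1⟩ := syl_ok
  simp only [List.all_eq_true, List.any_eq_true, List.contains_iff_mem, beq_iff_eq,
    List.mem_range, Bool.not_eq_true', decide_eq_false_iff_not] at hlen hcl hnd h1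
  let f : Fin 8 → J := fun i => el (sylW.getD i [])
  have hmem : ∀ i : Fin 8, sylW.getD i [] ∈ sylW := fun i => by
    rw [List.getD_eq_getElem _ _ (by omega : (i : ℕ) < sylW.length)]
    exact List.getElem_mem _
  have hsur : ∀ w ∈ sylW, ∃ i : Fin 8, sylW.getD i [] = w := fun w hw => by
    obtain ⟨k, hk, rfl⟩ := List.mem_iff_getElem.1 hw
    exact ⟨⟨k, by omega⟩, List.getD_eq_getElem _ _ hk⟩
  have hinj : Function.Injective f := by
    intro i j h
    have h' : wd (sylW.getD i []) = wd (sylW.getD j []) := congrArg Subtype.val h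
    rcases lt_trichotomy (i : ℕ) j with hl | hl | hl
    · exact absurd h'.symm (wd_ne (hnd j j.isLt i hl))
    · exact Fin.ext hl
    · exact absurd h' (wd_ne (hnd i i.isLt j hl))
  let N : Submonoid J :=
    { carrier := Set.range f
      one_mem' := by
        obtain ⟨i, hi⟩ := hsur [] h1
        exact ⟨i, Subtype.ext (show wd (sylW.getD i []) = 1 by rw [hi]; rfl)⟩
      mul_mem' := by
        rintro _ _ ⟨a, rfl⟩ ⟨b, rfl⟩
        obtain ⟨c, hc, he⟩ := hcl _ (hmem a) _ (hmem b)
        obtain ⟨i, rfl⟩ := hsur c hc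
        exact ⟨i, Subtype.ext (show wd _ = wd _ * wd _ by rw [← wd_append, wd_eq he])⟩ }
  have : Finite J := inferInstance
  let S : Subgroup J := { N with
    inv_mem' := fun {x} hx => by
      have h : x * x ^ (orderOf x - 1) = 1 := by
        rw [← pow_succ', Nat.sub_add_cancel (orderOf_pos x), pow_orderOf_eq_one]
      rw [inv_eq_of_mul_eq_one_right h]
      exact N.pow_mem hx _ }
  refine ⟨S, ?_, fun x hx => ?_⟩
  swap
  · obtain ⟨i, hi⟩ := hx
    exact ⟨i, i.isLt, hi.symm⟩
  show Nat.card (Set.range f) = 8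
  rw [Nat.card_range_of_injective hinj, Nat.card_fin]

/-- All involutions are conjugate. -/
theorem invol_conj {t : J} (ht : orderOf t = 2) : ∃ g : J, g * el aW * g⁻¹ = t := by
  classical
  have : Fact (Nat.Prime 2) := ⟨Nat.prime_two⟩
  obtain ⟨S, hS, hlist⟩ := exists_sylow_list
  have hfac : (Nat.card J).factorization 2 = 3 := by
    rw [card_J1, show (175560 : ℕ) = 2 ^ 3 * 21945 by norm_num,
      Nat.factorization_mul (by norm_num) (by norm_num), Finsupp.add_apply,
      Nat.Prime.factorization_pow Nat.prime_two, Finsupp.single_eq_same,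
      Nat.factorization_eq_zero_of_not_dvd (by norm_num : ¬ 2 ∣ 21945)]
  let P : Sylow 2 J := Sylow.ofCard S (by rw [hS, hfac]; norm_num)
  have hz : IsPGroup 2 (Subgroup.zpowers t) :=
    IsPGroup.of_card (n := 1) (by rw [Nat.card_zpowers, ht, pow_one])
  obtain ⟨Q, hQ⟩ := hz.exists_le_sylow
  obtain ⟨g, hg⟩ := MulAction.exists_smul_eq J Q P
  have hmem : g * t * g⁻¹ ∈ (P : Subgroup J) := by
    rw [← hg, Sylow.coe_subgroup_smul]
    exact ⟨t, hQ (Subgroup.mem_zpowers t), rfl⟩
  obtain ⟨i, hi, he⟩ := hlist _ hmem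
  have hi0 : i ≠ 0 := by
    rintro rfl
    rw [show sylW.getD 0 [] = [] by decide, el_nil, conj_eq_one_iff] at he
    rw [he, orderOf_one] at ht
    norm_num at ht
  have h := sylConj_ok
  rw [List.all_eq_true] at h
  have hh := el_eq (h (i - 1) (List.mem_range.2 (by omega)))
  rw [Nat.sub_add_cancel (Nat.pos_of_ne_zero hi0), el_append, el_append, ← he] at hh
  refine ⟨g⁻¹ * el (sylConj.getD i []), ?_⟩
  calc g⁻¹ * el (sylConj.getD i []) * el aW * (g⁻¹ * el (sylConj.getD i []))⁻¹
      = g⁻¹ * (el (sylConj.getD i []) * el aW) * (el (sylConj.getD i []))⁻¹ * g := by group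
    _ = t := by rw [hh]; group

theorem invol_index {t : J} (ht : orderOf t = 2) : ∃ i < 1463, val t = toMat (invol i) := by
  obtain ⟨g, rfl⟩ := invol_conj ht
  exact conj_index g

theorem orderOf_a : orderOf (el aW) = 2 := by
  have : Fact (Nat.Prime 2) := ⟨Nat.prime_two⟩
  exact (ordOk_spec (p := 2) (by decide +kernel)).2

theorem centW_ok : ((List.range 120).all fun i => Nat.beq (wp (centW.getD i [])) (centV i) &&
    Nat.beq (mul (centV i) (centV 1)) (mul (centV 1) (centV i))) = true ∧
    (centW.getD 1 [] == aW) = true := by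
  refine ⟨?_, ?_⟩ <;> decide +kernel

/-- A matrix read as a number in base eleven. -/
def matKey (M : Matrix (Fin 7) (Fin 7) (ZMod 11)) : ℕ :=
  (List.range 49).foldl (fun s m => 11 * s + (M (Fin.ofNat 7 (m / 7)) (Fin.ofNat 7 m)).val) 0

theorem centV_nodup : ((List.range 120).map fun i => matKey (toMat (centV i))).Nodup := by
  decide +kernel

/-- An element of the centraliser of the involution. -/
def cEl (i : ℕ) : J := el (centW.getD i [])

theorem val_cEl {i : ℕ} (hi : i < 120) : val (cEl i) = toMat (centV i) := by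
  have h := centW_ok.1
  rw [List.all_eq_true] at h
  have hh := h i (List.mem_range.2 hi)
  rw [Bool.and_eq_true] at hh
  rw [cEl, val_el, beq_eq hh.1]

theorem cEl_one : cEl 1 = el aW := by rw [cEl, beq_iff_eq.1 centW_ok.2]

theorem cEl_mem {i : ℕ} (hi : i < 120) : cEl i ∈ Subgroup.centralizer ({el aW} : Set J) := by
  rw [Subgroup.mem_centralizer_singleton_iff]
  have h := centW_ok.1
  rw [List.all_eq_true] at h
  have hh := h i (List.mem_range.2 hi)
  rw [Bool.and_eq_true] at hh
  apply val_inj
  rw [← cEl_one, val_mul, val_mul, val_cEl hi, val_cEl (by norm_num : 1 < 120)]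
  exact mul_eq_of_beq (small_centV _) (small_centV _) (small_centV _) (small_centV _) hh.2

theorem cEl_inj {i j : ℕ} (hi : i < 120) (hj : j < 120) (h : cEl i = cEl j) : i = j := by
  have hk : matKey (toMat (centV i)) = matKey (toMat (centV j)) := by
    rw [← val_cEl hi, ← val_cEl hj, h]
  exact List.inj_on_of_nodup_map centV_nodup (List.mem_range.2 hi) (List.mem_range.2 hj) hk

/-- The centraliser of the involution is the table. -/
theorem cent_eq : Nat.card (Subgroup.centralizer ({el aW} : Set J)) = 120 ∧
    ∀ x ∈ Subgroup.centralizer ({el aW} : Set J), ∃ i < 120, cEl i = x := by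
  classical
  set K := Subgroup.centralizer ({el aW} : Set J)
  let f : Fin 120 → K := fun i => ⟨cEl i, cEl_mem i.isLt⟩
  have hinj : Function.Injective f := fun i j h =>
    Fin.ext (cEl_inj i.isLt j.isLt (congrArg Subtype.val h))
  have hle : 120 ≤ Nat.card K := by
    simpa using Nat.card_le_card_of_injective f hinj
  have hcop : ∀ p, p.Prime → (p = 7 ∨ p = 11 ∨ p = 19) → ¬ p ∣ Nat.card K := by
    intro p hp hp' hdvd
    have := Fact.mk hp
    obtain ⟨u, hu⟩ := exists_prime_orderOf_dvd_card' p hdvd
    have hu' : orderOf (u : J) = p := by rwa [Subgroup.orderOf_coe]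
    have hc : Commute (el aW) (u : J) := (Subgroup.mem_centralizer_singleton_iff.1 u.2).symm
    have ho : orderOf (el aW * (u : J)) = 2 * p := by
      rw [hc.orderOf_mul_eq_mul_orderOf_of_coprime, orderOf_a, hu']
      rw [orderOf_a, hu']
      rcases hp' with rfl | rfl | rfl <;> norm_num
    obtain ⟨n, hn, hpow⟩ := exists_pow_eq_one (el aW * (u : J))
    have hdn : 2 * p ∣ n := ho ▸ orderOf_dvd_of_pow_eq_one hpow
    simp only [Finset.mem_insert, Finset.mem_singleton] at hn
    rcases hp' with rfl | rfl | rfl <;> rcases hn with rfl | rfl | rfl | rfl | rfl | rfl <;>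
      norm_num at hdn
  have hdvd : Nat.card K ∣ 120 := by
    have h1 : Nat.card K ∣ 120 * (7 * 11 * 19) := by
      have := Subgroup.card_subgroup_dvd_card K
      rw [card_J1] at this
      rwa [show (120 * (7 * 11 * 19) : ℕ) = 175560 from rfl]
    refine Nat.Coprime.dvd_of_dvd_mul_right ?_ h1
    exact Nat.Coprime.mul_right (Nat.Coprime.mul_right
      ((Nat.Prime.coprime_iff_not_dvd (by norm_num)).2 (hcop 7 (by norm_num) (by norm_num))).symm
      ((Nat.Prime.coprime_iff_not_dvd (by norm_num)).2 (hcop 11 (by norm_num) (by norm_num))).symm)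
      ((Nat.Prime.coprime_iff_not_dvd (by norm_num)).2 (hcop 19 (by norm_num) (by norm_num))).symm
  have hcard : Nat.card K = 120 := le_antisymm (Nat.le_of_dvd (by norm_num) hdvd) hle
  refine ⟨hcard, fun x hx => ?_⟩
  have hbij : Function.Bijective f :=
    (Nat.bijective_iff_injective_and_card f).2 ⟨hinj, by rw [hcard, Nat.card_fin]⟩
  obtain ⟨i, hi⟩ := hbij.surjective ⟨x, hx⟩
  exact ⟨i, i.isLt, congrArg Subtype.val hi⟩

end Cfsg.Agent.J1Invol
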