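import Cfsg.Agent.Lib.JankoOne.Involution
import Mathlib.GroupTheory.SpecificGroups.Alternating

/-!
# The centraliser of an involution in the first Janko group is `Z₂ × A₅`
-/

set_option autoImplicit false
set_option maxRecDepth 4000

namespace Cfsg.Agent.J1Invol

open Cfsg Cfsg.Agent.Recog Cfsg.Agent.Recog.JankoOne Cfsg.Agent.S0457 PackedEleven Equiv

set_option quotPrecheck false in
local notation "J" => ↥Cfsg.Spor.J1

/-- The target of the isomorphism. -/
abbrev CKind : Type := Multiplicative (ZMod 2) × ↥(alternatingGroup (Fin 5))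

/-- A double transposition. -/
def pA : alternatingGroup (Fin 5) := ⟨swap 0 1 * swap 2 3, Perm.mem_alternatingGroup.2 (by decide)⟩

/-- A three-cycle. -/
def qA : alternatingGroup (Fin 5) := ⟨swap 0 4 * swap 0 2, Perm.mem_alternatingGroup.2 (by decide)⟩

/-- The images of the three generators. -/
def kGen : ℕ → CKind
  | 0 => (Multiplicative.ofAdd 1, 1)
  | 1 => (1, pA)
  | _ => (1, qA)

/-- The image of an element of the centraliser. -/
def kEl (i : ℕ) : CKind := ((centG.getD i []).map kGen).prod

/-- An element of the target as a number. -/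
def kKey (x : CKind) : ℕ :=
  (Multiplicative.toAdd x.1).val + 2 * ((x.2.1 0 : ℕ) + 5 * ((x.2.1 1 : ℕ) + 5 * ((x.2.1 2 : ℕ) +
    5 * ((x.2.1 3 : ℕ) + 5 * (x.2.1 4 : ℕ)))))

theorem kKey_inj : Function.Injective kKey := by
  intro x y h
  unfold kKey at h
  have hx := (Multiplicative.toAdd x.1).val_lt
  have hy := (Multiplicative.toAdd y.1).val_lt
  have b0 := (x.2.1 0).isLt
  have b1 := (x.2.1 1).isLt
  have b2 := (x.2.1 2).isLt
  have b3 := (x.2.1 3).isLt
  have b4 := (x.2.1 4).isLt
  have c0 := (y.2.1 0).isLt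
  have c1 := (y.2.1 1).isLt
  have c2 := (y.2.1 2).isLt
  have c3 := (y.2.1 3).isLt
  have c4 := (y.2.1 4).isLt
  refine Prod.ext (Multiplicative.toAdd.injective (ZMod.val_injective 2 (by omega)))
    (Subtype.ext (Equiv.ext fun j => Fin.ext ?_))
  fin_cases j <;> simp <;> omega

theorem kKey_nodup : ((List.range 120).map fun i => kKey (kEl i)).Nodup := by decide +kernel

theorem kStep_ok : ((List.range 3).all fun d => (List.range 120).all fun i =>
    Nat.blt ((centStep.getD d []).getD i 0) 120 &&
    Nat.beq (mul (centV (d + 1)) (centV i)) (centV ((centStep.getD d []).getD i 0)) &&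
    Nat.beq (kKey (kEl (d + 1) * kEl i)) (kKey (kEl ((centStep.getD d []).getD i 0)))) = true ∧
    ((List.range 120).all fun i => ((centG.getD i []).all fun k => Nat.blt k 3) &&
      Nat.beq ((centG.getD i []).foldr (fun k s => mul (centV (k + 1)) s) JankoOne.one)
        (centV i)) = true ∧ (Nat.beq (centV 0) JankoOne.one && Nat.beq (kKey (kEl 0)) (kKey 1)) = true := by
  refine ⟨?_, ?_, ?_⟩ <;> decide +kernel

theorem cEl_zero : cEl 0 = 1 := by
  have h := kStep_ok.2.2
  rw [Bool.and_eq_true] at h
  exact val_inj (by rw [val_cEl (by norm_num), beq_eq h.1, one_val, val_one])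

theorem cEl_word {w : List ℕ} (hw : ∀ k ∈ w, k < 3) :
    Small (w.foldr (fun k s => mul (centV (k + 1)) s) JankoOne.one) ∧
    toMat (w.foldr (fun k s => mul (centV (k + 1)) s) JankoOne.one) =
      val (w.map fun k => cEl (k + 1)).prod := by
  induction w with
  | nil => exact ⟨small_spread _, by rw [List.foldr_nil, one_val]; rfl⟩
  | cons k w ih =>
    obtain ⟨h1, h2⟩ := ih fun m hm => hw m (List.mem_cons_of_mem _ hm)
    have hk := hw k (List.mem_cons_self ..)
    refine ⟨small_mul (small_centV _) h1, ?_⟩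
    rw [List.foldr_cons, toMat_mul (small_centV _) h1, h2, List.map_cons, List.prod_cons, val_mul,
      val_cEl (by omega)]

/-- The centraliser of an involution is the product of a group of order two and `A₅`. -/
theorem cent_iso : Nonempty (↥(Subgroup.centralizer ({el aW} : Set J)) ≃* CKind) := by
  classical
  obtain ⟨hcard, hall⟩ := cent_eq
  set K := Subgroup.centralizer ({el aW} : Set J)
  let f : Fin 120 → K := fun i => ⟨cEl i, cEl_mem i.isLt⟩
  let k : Fin 120 → CKind := fun i => kEl i
  have hf : Function.Bijective f :=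
    ⟨fun i j h => Fin.ext (cEl_inj i.isLt j.isLt (congrArg Subtype.val h)), fun x => by
      obtain ⟨i, hi, he⟩ := hall x.1 x.2
      exact ⟨⟨i, hi⟩, Subtype.ext he⟩⟩
  have hkinj : Function.Injective k := fun i j h => Fin.ext
    (List.inj_on_of_nodup_map kKey_nodup (List.mem_range.2 i.isLt) (List.mem_range.2 j.isLt)
      (congrArg kKey h))
  have hk : Function.Bijective k := (Nat.bijective_iff_injective_and_card k).2 ⟨hkinj, by
    rw [Nat.card_prod, Nat.card_fin, nat_card_alternatingGroup, Nat.card_fin,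
      Nat.card_eq_fintype_card, Fintype.card_multiplicative, ZMod.card]
    rfl⟩
  obtain ⟨hstep, hword, h0⟩ := kStep_ok
  simp only [List.all_eq_true, List.mem_range, Bool.and_eq_true] at hstep hword h0
  refine equiv_of_table f k hf hk 0 (Subtype.ext cEl_zero) (kKey_inj (beq_eq h0.2))
    {d | (d : ℕ) ∈ [1, 2, 3]} ?_ ?_
  · rw [eq_top_iff]
    intro x _
    obtain ⟨i, rfl⟩ := hf.surjective x
    obtain ⟨hw, he⟩ := hword i i.isLt
    have hw' : ∀ m ∈ centG.getD i [], m < 3 := fun m hm => blt_lt (hw m hm)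
    have hprod : cEl i = ((centG.getD i []).map fun m => cEl (m + 1)).prod := by
      apply val_inj
      rw [← (cEl_word hw').2, val_cEl i.isLt, beq_eq he]
    let T := (Subgroup.closure (f '' {d | (d : ℕ) ∈ [1, 2, 3]})).map K.subtype
    have hT : cEl i ∈ T := by
      rw [hprod]
      refine Subgroup.list_prod_mem _ fun y hy => ?_
      obtain ⟨m, hm, rfl⟩ := List.mem_map.1 hy
      have h3 := hw' m hm
      exact ⟨f ⟨m + 1, by omega⟩, Subgroup.subset_closure ⟨⟨m + 1, by omega⟩, by
        simp only [Set.mem_setOf_eq, List.mem_cons, List.not_mem_nil, or_false]; omega, rfl⟩, rfl⟩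
    obtain ⟨y, hy, he'⟩ := hT
    rwa [show f i = y from Subtype.ext he'.symm]
  · intro a ha i
    have ha3 : (a : ℕ) - 1 < 3 ∧ (a : ℕ) - 1 + 1 = a := by
      simp only [Set.mem_setOf_eq, List.mem_cons, List.not_mem_nil, or_false] at ha
      omega
    obtain ⟨⟨h1, h2⟩, h3⟩ := hstep _ ha3.1 i i.isLt
    rw [ha3.2] at h2 h3
    refine ⟨⟨_, blt_lt h1⟩, Subtype.ext (val_inj ?_), kKey_inj (beq_eq h3)⟩
    show val (cEl a * cEl i) = val (cEl _)
    rw [val_mul, val_cEl a.isLt, val_cEl i.isLt, val_cEl (blt_lt h1),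
      ← toMat_mul (small_centV _) (small_centV _), beq_eq h2]
where
  equiv_of_table {G K ι : Type} [Group G] [Finite G] [Group K] (f : ι → G) (k : ι → K)
    (hf : Function.Bijective f) (hk : Function.Bijective k) (i₀ : ι) (h₀ : f i₀ = 1)
    (h₀' : k i₀ = 1) (D : Set ι) (hgen : Subgroup.closure (f '' D) = ⊤)
    (hstep : ∀ a ∈ D, ∀ i, ∃ j, f a * f i = f j ∧ k a * k i = k j) : Nonempty (G ≃* K) := by
    let e := Equiv.ofBijective f hf
    let φ : G → K := fun g => k (e.symm g)
    have hφ : ∀ i, φ (f i) = k i := fun i => congrArg k (e.symm_apply_apply i)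
    have hbij : Function.Bijective φ := hk.comp e.symm.bijective
    have key : ∀ d ∈ Subgroup.closure (f '' D), ∀ x : G, φ (d * x) = φ d * φ x := by
      intro d hd
      rw [← SetLike.mem_coe, ← Subgroup.coe_toSubmonoid, Subgroup.closure_toSubmonoid_of_finite,
        SetLike.mem_coe] at hd
      induction hd using Submonoid.closure_induction with
      | mem y hy =>
        obtain ⟨a, ha, rfl⟩ := hy
        intro x
        obtain ⟨i, rfl⟩ := hf.surjective x
        obtain ⟨j, h1, h2⟩ := hstep a ha i
        rw [h1, hφ, hφ, hφ, h2]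
      | one =>
        intro x
        rw [one_mul, show φ 1 = 1 by rw [← h₀, hφ, h₀'], one_mul]
      | mul y z _ _ hy hz =>
        intro x
        rw [mul_assoc, hy (z * x), hz x, hy z, mul_assoc]
    exact ⟨MulEquiv.ofBijective (MonoidHom.mk' φ fun a b => key a (hgen ▸ Subgroup.mem_top a) b) hbij⟩

end Cfsg.Agent.J1Invol
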