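import Cfsg.Agent.Lib.JankoOne.Involution
import Cfsg.Prelude.Def_KGroupFacts

/-!
# Every automorphism of the first Janko group is inner

An automorphism may be changed by inner ones to fix an involution `a`, then an involution `b` with
`ab` of order eleven, as the centraliser of `a` is transitive on these; a third involution `c` is
the only one with `(ac)^7 = (bc)^6 = (abc)^7 = 1`, and the three generate.
-/

set_option autoImplicit false
set_option maxRecDepth 4000

namespace Cfsg.Agent.J1Invol

open Cfsg Cfsg.Agent.Recog Cfsg.Agent.Recog.JankoOne Cfsg.Agent.S0457 PackedEleven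

set_option quotPrecheck false in
local notation "J" => ↥Cfsg.Spor.J1

/-- All entries agree with those of the identity. -/
def eqOne (g : ℕ) : Bool :=
  (List.range 49).all fun m => Nat.beq (field g m % 11) (field JankoOne.one m % 11)

theorem eqOne_of {g : ℕ} (h : toMat g = 1) : eqOne g = true := by
  rw [eqOne, List.all_eq_true]
  intro m hm
  rw [List.mem_range] at hm
  have h' : toMat g = toMat JankoOne.one := by rw [h, one_val]
  have he := congrFun (congrFun h' ⟨m / 7, by omega⟩) ⟨m % 7, by omega⟩
  simp only [toMat, Matrix.of_apply] at he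
  rw [ZMod.natCast_eq_natCast_iff'] at he
  rw [Nat.div_add_mod] at he
  rw [he]
  exact Nat.beq_refl _

/-- The sixth power may be the identity. -/
def six (g : ℕ) : Bool :=
  force g fun g => force (mul g g) fun g2 => force (mul g2 g) fun g3 => eqOne (mul g3 g3)

/-- The seventh power may be the identity. -/
def seven (g : ℕ) : Bool :=
  force g fun g => force (mul g g) fun g2 => force (mul g2 g) fun g3 => force (mul g3 g3) fun g6 =>
    eqOne (mul g6 g)

/-- The eleventh power may be the identity. -/
def eleven (g : ℕ) : Bool :=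
  force g fun g => force (mul g g) fun g2 => force (mul g2 g2) fun g4 => force (mul g4 g) fun g5 =>
    force (mul g5 g5) fun g10 => eqOne (mul g10 g)

theorem six_of {g : ℕ} (hg : Small g) (h : toMat g ^ 6 = 1) : six g = true := by
  simp only [six, force_eq]
  apply eqOne_of
  have h2 := small_mul hg hg
  have h3 := small_mul h2 hg
  rw [toMat_mul h3 h3, toMat_mul h2 hg, toMat_mul hg hg, ← h]
  simp only [pow_succ, pow_zero, one_mul, mul_assoc]

theorem seven_of {g : ℕ} (hg : Small g) (h : toMat g ^ 7 = 1) : seven g = true := by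
  simp only [seven, force_eq]
  apply eqOne_of
  have h2 := small_mul hg hg
  have h3 := small_mul h2 hg
  rw [toMat_mul (small_mul h3 h3) hg, toMat_mul h3 h3, toMat_mul h2 hg, toMat_mul hg hg, ← h]
  simp only [pow_succ, pow_zero, one_mul, mul_assoc]

theorem eleven_of {g : ℕ} (hg : Small g) (h : toMat g ^ 11 = 1) : eleven g = true := by
  simp only [eleven, force_eq]
  apply eqOne_of
  have h2 := small_mul hg hg
  have h4 := small_mul h2 h2
  have h5 := small_mul h4 hg
  rw [toMat_mul (small_mul h5 h5) hg, toMat_mul h5 h5, toMat_mul h4 hg, toMat_mul h2 h2,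
    toMat_mul hg hg, ← h]
  simp only [pow_succ, pow_zero, one_mul, mul_assoc]

/-- The condition on the second involution at an index. -/
def pairOk (i : ℕ) : Bool :=
  force (invol i) fun m => Nat.beq i 0 || !(eleven (mul (invol 0) m)) ||
    (Nat.blt 0 (pairData.get i) && Nat.blt (pairData.get i) 121 &&
      Nat.beq (mul (centV (pairData.get i - 1)) (invol 28)) (mul m (centV (pairData.get i - 1))))

/-- The condition on the third involution at an index. -/
def thirdOk (i : ℕ) : Bool :=
  force (invol i) fun m => Nat.beq i 315 || !(seven (mul (invol 0) m) && six (mul (invol 28) m) &&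
    seven (mul (mul (invol 0) (invol 28)) m))

theorem pair_check0 : allBelow pairOk 20 0 500 = true := by decide +kernel

theorem pair_check1 : allBelow pairOk 20 500 500 = true := by decide +kernel

theorem pair_check2 : allBelow pairOk 20 1000 463 = true := by decide +kernel

theorem third_check0 : allBelow thirdOk 20 0 500 = true := by decide +kernel

theorem third_check1 : allBelow thirdOk 20 500 500 = true := by decide +kernel

theorem third_check2 : allBelow thirdOk 20 1000 463 = true := by decide +kernel

theorem pair_check (i : ℕ) (hi : i < 1463) : pairOk i = true := by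
  by_cases h0 : i < 500
  · exact allBelow_spec 20 0 500 pair_check0 i (by omega) (by omega)
  by_cases h1 : i < 1000
  · exact allBelow_spec 20 500 500 pair_check1 i (by omega) (by omega)
  exact allBelow_spec 20 1000 463 pair_check2 i (by omega) (by omega)

theorem third_check (i : ℕ) (hi : i < 1463) : thirdOk i = true := by
  by_cases h0 : i < 500
  · exact allBelow_spec 20 0 500 third_check0 i (by omega) (by omega)
  by_cases h1 : i < 1000
  · exact allBelow_spec 20 500 500 third_check1 i (by omega) (by omega)
  exact allBelow_spec 20 1000 463 third_check2 i (by omega) (by omega)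

theorem three_facts :
    (Nat.beq (wp bW) (invol 28) && Nat.beq (wp cW) (invol 315) &&
      Nat.beq (wp (rep 2 bW)) (wp []) && Nat.beq (wp (rep 2 cW)) (wp []) &&
      Nat.beq (wp (rep 11 (aW ++ bW))) (wp []) && Nat.beq (wp (rep 7 (aW ++ cW))) (wp []) &&
      Nat.beq (wp (rep 6 (bW ++ cW))) (wp []) && Nat.beq (wp (rep 7 (aW ++ bW ++ cW))) (wp []) &&
      !decide (toMat (wp bW) = toMat (wp aW)) && !decide (toMat (wp bW) = toMat (wp [])) &&
      !decide (toMat (wp cW) = toMat (wp []))) = true := by
  decide +kernel

theorem el_pow (n : ℕ) (l : List Bool) : el (rep n l) = el l ^ n :=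
  Subtype.ext (by
    rw [SubgroupClass.coe_pow]
    exact wd_rep n l)

theorem el_flatten : ∀ w : List (List Bool), el w.flatten = (w.map el).prod
  | [] => rfl
  | l :: w => by rw [List.flatten_cons, el_append, List.map_cons, List.prod_cons, el_flatten w]

theorem gen_words :
    (Nat.beq (wp ((genW.getD 0 []).map fun k => [aW, bW, cW].getD k []).flatten) (wp [false]) &&
      Nat.beq (wp ((genW.getD 1 []).map fun k => [aW, bW, cW].getD k []).flatten) (wp [true])) =
      true := by
  decide +kernel

theorem three_generate : Subgroup.closure ({el aW, el bW, el cW} : Set J) = ⊤ := by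
  set H := Subgroup.closure ({el aW, el bW, el cW} : Set J)
  have hmem : ∀ k : ℕ, el ([aW, bW, cW].getD k []) ∈ H := by
    intro k
    match k with
    | 0 => exact Subgroup.subset_closure (Or.inl rfl)
    | 1 => exact Subgroup.subset_closure (Or.inr (Or.inl rfl))
    | 2 => exact Subgroup.subset_closure (Or.inr (Or.inr rfl))
    | k + 3 => exact H.one_mem
  have hword : ∀ w : List ℕ, el (w.map fun k => [aW, bW, cW].getD k []).flatten ∈ H := by
    intro w
    rw [el_flatten]
    refine Subgroup.list_prod_mem _ fun y hy => ?_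
    simp only [List.map_map, List.mem_map, Function.comp_apply] at hy
    obtain ⟨k, -, rfl⟩ := hy
    exact hmem k
  have h := gen_words
  rw [Bool.and_eq_true] at h
  have hX : el [false] ∈ H := el_eq h.1 ▸ hword _
  have hY : el [true] ∈ H := el_eq h.2 ▸ hword _
  rw [eq_top_iff]
  rintro ⟨x, hx⟩ -
  have : x ∈ H.map Spor.J1.subtype := by
    refine (Subgroup.closure_le _).2 ?_ hx
    rintro y (rfl | rfl)
    · exact ⟨el [false], hX, mul_one _⟩
    · exact ⟨el [true], hY, mul_one _⟩
  obtain ⟨y, hy, he⟩ := this
  rwa [show (⟨x, hx⟩ : J) = y from Subtype.ext he.symm]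

theorem val_pow (x : J) (n : ℕ) : val (x ^ n) = val x ^ n := by
  rw [val, SubgroupClass.coe_pow, Units.val_pow_eq_pow_val]; rfl

theorem orderOf_map_two (φ : MulAut J) {x : J} (hx : orderOf x = 2) : orderOf (φ x) = 2 := by
  rw [MulEquiv.orderOf_eq, hx]

/-- Every automorphism is inner. -/
theorem mem_inn (φ : MulAut J) : φ ∈ Cfsg.Inn J := by
  have : Fact (Nat.Prime 2) := ⟨Nat.prime_two⟩
  have hf := three_facts
  simp only [Bool.and_eq_true, Bool.not_eq_true', decide_eq_false_iff_not] at hf
  obtain ⟨⟨⟨⟨⟨⟨⟨⟨⟨⟨hb, hc⟩, hb2⟩, hc2⟩, hab⟩, hac⟩, hbc⟩, habc⟩, hba⟩, hb1⟩, hc1⟩ := hf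
  have hob : orderOf (el bW) = 2 :=
    (ordOk_spec (p := 2) (by simp [ordOk, hb2, hb1])).2
  have hoc : orderOf (el cW) = 2 :=
    (ordOk_spec (p := 2) (by simp [ordOk, hc2, hc1])).2
  have vA : val (el aW) = toMat (invol 0) := by rw [val_el, beq_eq invol_zero]
  have vB : val (el bW) = toMat (invol 28) := by rw [val_el, beq_eq hb]
  have vC : val (el cW) = toMat (invol 315) := by rw [val_el, beq_eq hc]
  have pab : (el aW * el bW) ^ 11 = 1 := by rw [← el_append, ← el_pow, el_eq hab, el_nil]
  have pac : (el aW * el cW) ^ 7 = 1 := by rw [← el_append, ← el_pow, el_eq hac, el_nil]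
  have pbc : (el bW * el cW) ^ 6 = 1 := by rw [← el_append, ← el_pow, el_eq hbc, el_nil]
  have pabc : (el aW * el bW * el cW) ^ 7 = 1 := by
    rw [← el_append, ← el_append, ← el_pow, el_eq habc, el_nil]
  -- fix the first involution
  obtain ⟨g, hg⟩ := invol_conj (orderOf_map_two φ orderOf_a)
  set φ₁ : MulAut J := MulAut.conj g⁻¹ * φ with hφ₁
  have h1a : φ₁ (el aW) = el aW := by
    rw [hφ₁, MulAut.mul_apply, MulAut.conj_apply, ← hg]; group
  -- fix the second
  obtain ⟨i, hi, hiv⟩ := invol_index (orderOf_map_two φ₁ hob)
  have hi0 : i ≠ 0 := by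
    rintro rfl
    have : φ₁ (el bW) = φ₁ (el aW) := by rw [h1a]; exact val_inj (by rw [hiv, vA])
    exact hba (by rw [← val_el, ← val_el, φ₁.injective this])
  have he11 : eleven (mul (invol 0) (invol i)) = true := by
    refine eleven_of (small_mul (small_invol _) (small_invol _)) ?_
    rw [toMat_mul (small_invol _) (small_invol _), ← vA, ← hiv, ← val_mul, ← val_pow]
    conv_lhs => rw [← h1a, ← map_mul, ← map_pow, pab, map_one]
    rfl
  have hp := pair_check i hi
  simp only [pairOk, force_eq, Bool.or_eq_true, Bool.and_eq_true, he11, Bool.not_true,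
    Bool.false_eq_true, or_false] at hp
  rcases hp with hp | ⟨⟨hp0, hp1⟩, hp2⟩
  · exact absurd (beq_eq hp) hi0
  set h := cEl (pairData.get i - 1)
  have hlt : pairData.get i - 1 < 120 := by
    have := blt_lt hp1; omega
  have hh : h * el bW = φ₁ (el bW) * h := by
    apply val_inj
    rw [val_mul, val_mul, hiv, vB, val_cEl hlt]
    exact mul_eq_of_beq (small_centV _) (small_invol _) (small_invol _) (small_centV _) hp2
  set φ₂ : MulAut J := MulAut.conj h⁻¹ * φ₁ with hφ₂
  have h2a : φ₂ (el aW) = el aW := by
    rw [hφ₂, MulAut.mul_apply, h1a, MulAut.conj_apply, inv_inv]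
    rw [mul_assoc, ← (Subgroup.mem_centralizer_singleton_iff.1 (cEl_mem hlt)), inv_mul_cancel_left]
  have h2b : φ₂ (el bW) = el bW := by
    rw [hφ₂, MulAut.mul_apply, MulAut.conj_apply, inv_inv, mul_assoc, ← hh, inv_mul_cancel_left]
  -- the third is then fixed
  obtain ⟨j, hj, hjv⟩ := invol_index (orderOf_map_two φ₂ hoc)
  have e1 : seven (mul (invol 0) (invol j)) = true := by
    refine seven_of (small_mul (small_invol _) (small_invol _)) ?_
    rw [toMat_mul (small_invol _) (small_invol _), ← vA, ← hjv, ← val_mul, ← val_pow]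
    conv_lhs => rw [← h2a, ← map_mul, ← map_pow, pac, map_one]
    rfl
  have e2 : six (mul (invol 28) (invol j)) = true := by
    refine six_of (small_mul (small_invol _) (small_invol _)) ?_
    rw [toMat_mul (small_invol _) (small_invol _), ← vB, ← hjv, ← val_mul, ← val_pow]
    conv_lhs => rw [← h2b, ← map_mul, ← map_pow, pbc, map_one]
    rfl
  have e3 : seven (mul (mul (invol 0) (invol 28)) (invol j)) = true := by
    refine seven_of (small_mul (small_mul (small_invol _) (small_invol _)) (small_invol _)) ?_
    rw [toMat_mul (small_mul (small_invol _) (small_invol _)) (small_invol _),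
      toMat_mul (small_invol _) (small_invol _), ← vA, ← vB, ← hjv, ← val_mul, ← val_mul, ← val_pow]
    conv_lhs => rw [← h2a, ← h2b, ← map_mul, ← map_mul, ← map_pow, pabc, map_one]
    rfl
  have ht := third_check j hj
  simp only [thirdOk, force_eq, e1, e2, e3, Bool.and_self, Bool.not_true, Bool.or_false] at ht
  have h2c : φ₂ (el cW) = el cW := val_inj (by rw [hjv, vC, beq_eq ht])
  have hid : φ₂ = 1 := by
    have : (φ₂.toMonoidHom) = MonoidHom.id J := by
      refine MonoidHom.eq_of_eqOn_dense three_generate ?_
      rintro x (rfl | rfl | rfl)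
      · exact h2a
      · exact h2b
      · exact h2c
    exact MulEquiv.ext fun x => DFunLike.congr_fun this x
  refine ⟨g * h, ?_⟩
  rw [hφ₂, hφ₁, ← mul_assoc, ← map_mul, mul_eq_one_iff_inv_eq, ← map_inv, mul_inv_rev, inv_inv,
    inv_inv] at hid
  exact hid

/-- The outer automorphism group is trivial. -/
theorem card_out : Nat.card (Cfsg.Out J) = 1 := by
  have : Subsingleton (Cfsg.Out J) := ⟨fun x y => by
    induction x using QuotientGroup.induction_on with
    | _ a => induction y using QuotientGroup.induction_on with
      | _ b =>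
        rw [QuotientGroup.eq]
        exact mem_inn _⟩
  exact Nat.card_unique

end Cfsg.Agent.J1Invol
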